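import Groth.Agent.GrpFieldLib.Uniq
import Groth.Agent.HomogSepLib.Irr
import Groth.Prelude.Def_Red2
import Groth.Agent.AlgSpLib.ReducedSmooth

/-!
A group over a field with isolated unit is discrete.
-/

set_option autoImplicit false
set_option linter.style.haveILetI false
set_option backward.isDefEq.respectTransparency false
set_option backward.isDefEq.respectTransparency.types false
set_option maxHeartbeats 1000000

noncomputable section

universe u

open CategoryTheory CategoryTheory.Limits MonoidalCategory CartesianMonoidalCategory AlgebraicGeometry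
open scoped MonObj

attribute [-instance] CategoryTheory.Hom.commGroup

namespace Groth.Agent.RedKer

theorem discrete_of_isOpen_unit_algClosed {F : Type u} [Field F] [IsAlgClosed F] {G : Over (Spec (CommRingCat.of F))}
    [GrpObj G] [LocallyOfFiniteType G.hom] {e : G.left} (hec : IsClosed {e}) (heo : IsOpen ({e} : Set G.left)) :
    DiscreteTopology G.left := by
  haveI : JacobsonSpace G.left := LocallyOfFiniteType.jacobsonSpace G.hom
  have hcl : ∀ b : G.left, IsClosed {b} → IsOpen ({b} : Set G.left) := fun b hb => by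
    obtain ⟨φ, hφ⟩ := HomogSep.exists_homeo e b hec hb
    simpa [hφ] using φ.isOpen_image.2 heo
  refine discreteTopology_iff_isOpen_singleton.2 fun b => hcl b ?_
  by_contra hb
  let U : Set G.left := ⋃ c ∈ {c : G.left | IsClosed {c}}, {c}
  have hU : IsOpen U := isOpen_biUnion fun c hc => hcl c hc
  have hbU : b ∈ Uᶜ := fun h => by
    obtain ⟨c, hc, hbc⟩ := Set.mem_iUnion₂.1 h
    exact hb (Set.mem_singleton_iff.1 hbc ▸ hc)
  obtain ⟨c, hcU, hc⟩ := nonempty_inter_closedPoints (Z := Uᶜ) ⟨b, hbU⟩ hU.isClosed_compl.isLocallyClosed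
  exact hcU (Set.mem_iUnion₂.2 ⟨c, hc, rfl⟩)

/-- **A group over a field with isolated unit is discrete.** -/
theorem discrete_of_isOpen_unit {k : Type u} [Field k] {G : Over (Spec (CommRingCat.of k))} [GrpObj G]
    [LocallyOfFiniteType G.hom]
    (heo : IsOpen ({(η[G]).left (IsLocalRing.closedPoint k)} : Set G.left)) : DiscreteTopology G.left := by
  let F : Type u := AlgebraicClosure k
  let ξ : Spec (CommRingCat.of F) ⟶ Spec (CommRingCat.of k) := Spec.map (CommRingCat.ofHom (algebraMap k F))
  let G' := Red.bc ξ G
  haveI : LocallyOfFiniteType G'.hom := MorphismProperty.pullback_snd (P := @LocallyOfFiniteType) _ _ inferInstance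
  let π : G'.left ⟶ G.left := pullback.fst G.hom ξ
  let e : 𝟙_ (Over (Spec (CommRingCat.of k))) ⟶ G := η[G]
  let e' : Spec (CommRingCat.of F) ⟶ G'.left := pullback.lift (ξ ≫ e.left) (𝟙 _) (by
    rw [Category.assoc, Category.id_comp]
    exact (congrArg (ξ ≫ ·) (Over.w e)).trans (Category.comp_id _))
  have hsq : IsPullback e' ξ π e.left := by
    refine (IsPullback.of_bot (v₂₁ := pullback.snd G.hom ξ) (v₂₂ := G.hom) (h₃₁ := ξ) ?_
      (pullback.lift_fst _ _ _).symm (IsPullback.of_hasPullback G.hom ξ)).flip
    rw [pullback.lift_snd, Over.w e]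
    exact IsPullback.of_id_snd
  let p₀ := IsLocalRing.closedPoint F
  haveI : Subsingleton ↥(Spec (CommRingCat.of k)) := inferInstanceAs (Subsingleton (PrimeSpectrum k))
  haveI : Subsingleton ↥(Spec (CommRingCat.of F)) := inferInstanceAs (Subsingleton (PrimeSpectrum F))
  have hpre : π ⁻¹' {e.left (IsLocalRing.closedPoint k)} = {e' p₀} := by
    refine Set.eq_singleton_iff_unique_mem.2 ⟨?_, fun x hx => ?_⟩
    · show π (e' p₀) = _
      rw [← Scheme.Hom.comp_apply, pullback.lift_fst, Scheme.Hom.comp_apply]
      exact congrArg e.left (Subsingleton.elim (α := PrimeSpectrum k) _ _)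
    · obtain ⟨z, hz, -⟩ := Scheme.exists_preimage_of_isPullback hsq x (IsLocalRing.closedPoint k) hx
      rw [← hz]
      exact congrArg e' (Subsingleton.elim _ _)
  have heo' : IsOpen ({e' p₀} : Set G'.left) := hpre ▸ heo.preimage π.continuous
  haveI : JacobsonSpace G'.left := LocallyOfFiniteType.jacobsonSpace G'.hom
  have hec' : IsClosed ({e' p₀} : Set G'.left) := isClosed_singleton_of_isLocallyClosed_singleton heo'.isLocallyClosed
  haveI := discrete_of_isOpen_unit_algClosed (G := G') hec' heo'
  haveI : UniversallyOpen ξ := GrpField.universallyOpen_field ξ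
  haveI : Surjective ξ := ⟨fun x => ⟨p₀, Subsingleton.elim _ _⟩⟩
  haveI : Surjective π := MorphismProperty.pullback_fst (P := @Surjective) _ _ inferInstance
  refine discreteTopology_iff_isOpen_singleton.2 fun b => ?_
  obtain ⟨a, rfl⟩ := π.surjective b
  rw [← Set.image_singleton]
  exact π.isOpenMap _ (isOpen_discrete _)

end Groth.Agent.RedKer
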