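import Groth.Agent.RedKerLib.Kernel
import Groth.Agent.MultHomLib.FinGlobal
import Groth.Agent.DiagRepLib.Main
import Groth.Agent.BorelLib.ImageField
import Groth.Agent.S0084

/-!
Quasi-finite closed subgroups of groups of multiplicative type are finite.
-/

set_option autoImplicit false
set_option linter.style.haveILetI false
set_option backward.isDefEq.respectTransparency false
set_option backward.isDefEq.respectTransparency.types false
set_option maxHeartbeats 1000000
set_option synthInstance.maxHeartbeats 400000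

noncomputable section

universe u

open CategoryTheory CategoryTheory.Limits MonoidalCategory CartesianMonoidalCategory AlgebraicGeometry CoactBr
open scoped MonObj TensorProduct
open WithConv

attribute [-instance] CategoryTheory.Hom.commGroup

namespace Groth.Agent.RedKer

attribute [local instance] CoactBr.braidedAlgSpecOf

open Groth.Agent.DiagRep (exists_pt)
open Groth.Agent.FreeAct (DA)

/-- An element which is a root of unity at every prime is integral. -/
theorem isIntegral_of_pow_sub_one {R B : Type u} [CommRing R] [CommRing B] [Algebra R B] (e : B)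
    (h : ∀ P : PrimeSpectrum B, ∃ n : ℕ, 0 < n ∧ e ^ n - 1 ∈ P.asIdeal) : IsIntegral R e := by
  let S : Submonoid B := Submonoid.closure {b | ∃ n : ℕ, 0 < n ∧ b = e ^ n - 1}
  have hmon : ∀ b ∈ S, ∃ q : Polynomial R, q.Monic ∧ Polynomial.aeval e q = b := fun b hb => by
    induction hb using Submonoid.closure_induction with
    | mem x hx =>
      obtain ⟨n, hn, rfl⟩ := hx
      exact ⟨Polynomial.X ^ n - Polynomial.C 1, Polynomial.monic_X_pow_sub_C 1 hn.ne', by simp⟩
    | one => exact ⟨1, Polynomial.monic_one, map_one _⟩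
    | mul x y _ _ hx hy =>
      obtain ⟨q, hq, rfl⟩ := hx
      obtain ⟨q', hq', rfl⟩ := hy
      exact ⟨q * q', hq.mul hq', map_mul _ _ _⟩
  by_cases h0 : (0 : B) ∈ S
  · obtain ⟨q, hq, hq0⟩ := hmon 0 h0
    exact ⟨q, hq, by rwa [← Polynomial.aeval_def]⟩
  obtain ⟨P, hP, -, hd⟩ := Ideal.exists_le_prime_disjoint (⊥ : Ideal B) S
    (Set.disjoint_left.2 fun x hx hxS => h0 ((Submodule.mem_bot B).1 hx ▸ hxS))
  obtain ⟨n, hn, hmem⟩ := h ⟨P, hP⟩
  exact absurd (Submonoid.subset_closure (show e ^ n - 1 ∈ {b | ∃ n : ℕ, 0 < n ∧ b = e ^ n - 1} from ⟨n, hn, rfl⟩))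
    (Set.disjoint_left.1 hd hmem)

/-- A quasi-finite algebra has finitely many points in a field. -/
theorem finite_points {R B L : Type u} [CommRing R] [CommRing B] [Algebra R B] [Field L] [Algebra R L]
    [Algebra.QuasiFinite R B] : Finite (B →ₐ[R] L) := by
  haveI : Module.Finite L (L ⊗[R] B) := Module.Finite.of_quasiFinite
  let F : (B →ₐ[R] L) → (L ⊗[R] B →ₐ[L] L) := fun φ =>
    Algebra.TensorProduct.lift (Algebra.ofId L L) φ fun _ _ => Commute.all _ _
  refine Finite.of_injective F fun φ φ' hφ => AlgHom.ext fun b => ?_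
  simpa [F] using DFunLike.congr_fun hφ ((1 : L) ⊗ₜ[R] b)

/-- The finite-fibre piece. -/
theorem isFinite_piece {R : Type u} [CommRing R] {M : Type} [AddCommGroup M]
    {W : Over (Spec (CommRingCat.of R))} [GrpObj W] (l : W ⟶ sp R (DA R M)) [IsMonHom l]
    [IsClosedImmersion l.left] [LocallyQuasiFinite W.hom] [LocallyOfFiniteType W.hom] : IsFinite W.hom := by
  haveI : IsAffine (sp R (DA R M)).left := inferInstanceAs (IsAffine (Spec (CommRingCat.of (DA R M))))
  haveI : IsAffine W.left := isAffine_of_isAffineHom l.left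
  obtain ⟨B, _, _, z, hz, hz'⟩ := HomCorr.exists_hopf W
  haveI := hz; haveI := hz'
  haveI : IsIso z.hom.left := (Over.forget _).map_isIso z.hom
  haveI : IsIso z.inv.left := (Over.forget _).map_isIso z.inv
  have hB₁ : LocallyQuasiFinite (sp R B).hom := by rw [← Over.w z.hom]; infer_instance
  have hB₂ : LocallyOfFiniteType (sp R B).hom := by rw [← Over.w z.hom]; infer_instance
  change LocallyQuasiFinite (Spec.map (CommRingCat.ofHom (algebraMap R B))) at hB₁
  change LocallyOfFiniteType (Spec.map (CommRingCat.ofHom (algebraMap R B))) at hB₂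
  rw [HasRingHomProperty.Spec_iff (P := @LocallyQuasiFinite), CommRingCat.hom_ofHom,
    RingHom.quasiFinite_algebraMap] at hB₁
  rw [HasRingHomProperty.Spec_iff (P := @LocallyOfFiniteType), CommRingCat.hom_ofHom,
    RingHom.finiteType_algebraMap] at hB₂
  haveI := hB₁; haveI := hB₂
  obtain ⟨ψ, hψ⟩ := exists_pt (z.hom ≫ l)
  haveI : IsMonHom (pt ψ) := hψ ▸ inferInstance
  have hsurj : Function.Surjective ψ := DiagRep.surjective_of_isClosedImmersion ψ (by
    rw [← hψ, Over.comp_left]; infer_instance)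
  have hint : ∀ m : Multiplicative M, IsIntegral R (ψ (MonoidAlgebra.of R _ m)) := fun m => by
    refine isIntegral_of_pow_sub_one _ fun P => ?_
    let L := P.asIdeal.ResidueField
    haveI : Finite (B →ₐ[R] L) := finite_points
    haveI : Finite (sp R L ⟶ sp R B) := Finite.of_surjective (fun φ : B →ₐ[R] L => pt φ) fun f => by
      obtain ⟨φ, rfl⟩ := exists_pt f; exact ⟨φ, rfl⟩
    let φ₀ : B →ₐ[R] L := IsScalarTower.toAlgHom R B L
    obtain ⟨n, hn, hpow⟩ := isOfFinOrder_iff_pow_eq_one.1 (isOfFinOrder_of_finite (pt φ₀ : sp R L ⟶ sp R B))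
    refine ⟨n, hn, ?_⟩
    let ev : (sp R L ⟶ sp R (DA R M)) → L := fun f =>
      (exists_pt f).choose (MonoidAlgebra.of R _ m)
    have hev : ∀ φ : DA R M →ₐ[R] L, ev (pt φ) = φ (MonoidAlgebra.of R _ m) := fun φ =>
      DFunLike.congr_fun (pt_injective (exists_pt (pt φ)).choose_spec.symm) _
    have hpowpt : ∀ (φ : DA R M →ₐ[R] L) (k : ℕ), ∃ φ' : DA R M →ₐ[R] L, (pt φ) ^ k = pt φ' ∧
        φ' (MonoidAlgebra.of R _ m) = φ (MonoidAlgebra.of R _ m) ^ k := by
      intro φ k
      induction k with
      | zero =>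
        refine ⟨(Algebra.ofId R L).comp (Bialgebra.counitAlgHom R (DA R M)), by rw [pow_zero, DiagRep.pt_one], ?_⟩
        simp
      | succ k ih =>
        obtain ⟨φ', h1, h2⟩ := ih
        refine ⟨(toConv φ' * toConv φ).ofConv, by rw [pow_succ, h1, DiagRep.pt_mul_conv], ?_⟩
        rw [pow_succ, ← h2]
        show (toConv φ' * toConv φ : WithConv (DA R M →ₐ[R] L)) (MonoidAlgebra.of R _ m) = _
        rw [AlgHom.convMul_apply]
        simp
    obtain ⟨φ', h1, h2⟩ := hpowpt (φ₀.comp ψ) n
    have hcomp : ∀ (g : sp R L ⟶ sp R B) (k : ℕ), (g ^ k) ≫ pt ψ = (g ≫ pt ψ) ^ k := fun g k => by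
      induction k with
      | zero => rw [pow_zero, pow_zero, MonObj.one_comp]
      | succ k ih => rw [pow_succ, pow_succ, MonObj.mul_comp, ih]
    have h3 : (pt φ₀ ≫ pt ψ) ^ n = 1 := by
      rw [← hcomp, hpow, MonObj.one_comp]
    rw [← pt_comp, h1, ← DiagRep.pt_one] at h3
    have h4 := DFunLike.congr_fun (pt_injective h3) (MonoidAlgebra.of R _ m)
    rw [h2] at h4
    rw [← Ideal.algebraMap_residueField_eq_zero, map_sub, map_pow, map_one, sub_eq_zero]
    simpa [φ₀] using h4
  haveI : Algebra.IsIntegral R B := ⟨fun b => by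
    obtain ⟨x, rfl⟩ := hsurj b
    induction x using MonoidAlgebra.induction_on with
    | of m => exact hint m
    | add x y hx hy => rw [map_add]; exact hx.add hy
    | smul r x hx => rw [map_smul]; exact hx.smul r⟩
  haveI : Module.Finite R B := Algebra.IsIntegral.finite
  haveI : IsFinite (sp R B).hom := by
    show IsFinite (Spec.map (CommRingCat.ofHom (algebraMap R B)))
    exact (IsFinite.SpecMap_iff _).2 (RingHom.finite_algebraMap.2 inferInstance)
  rw [← Over.w z.inv]
  infer_instance

variable {S : Scheme.{u}}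

/-- **A quasi-finite closed subgroup of a group of multiplicative type is finite.** -/
theorem isFinite_of_quasiFinite {Z W : Over S} [GrpObj Z] [GrpObj W] (hZ : SGA3x.IsMultTypeFT Z)
    (l : W ⟶ Z) [IsMonHom l] [IsClosedImmersion l.left] [LocallyQuasiFinite W.hom] : IsFinite W.hom := by
  haveI := MultEq.lfp_of_isMultTypeFT hZ
  haveI : LocallyOfFiniteType W.hom := by rw [← Over.w l]; infer_instance
  obtain ⟨S', f, hflat, hsurj, hcov, hloc⟩ := id hZ
  haveI := hflat; haveI := hsurj
  haveI := Groth.Agent.S0084.result.{u}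
  refine MultHom.prop_of_cover @IsFinite W.hom f hcov fun x => ?_
  obtain ⟨U, hxU, M, _, -, ⟨e⟩⟩ := hloc x
  obtain ⟨T, hT, hxT, hTU⟩ := exists_isAffineOpen_mem_and_subset (X := S') (x := x) (U := U) hxU
  haveI : IsAffine (T : Scheme.{u}) := hT
  refine ⟨T, hxT, ?_⟩
  let R : Type u := Γ((T : Scheme.{u}), ⊤)
  let a : Spec (CommRingCat.of R) ⟶ (T : Scheme.{u}) := (T : Scheme.{u}).isoSpec.inv
  let p : Spec (CommRingCat.of R) ⟶ S := a ≫ T.ι ≫ f
  obtain ⟨w, hw⟩ := MultLift.exists_split_iso e (a ≫ S'.homOfLE hTU) p (by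
    simp only [p, Category.assoc, Scheme.homOfLE_ι_assoc])
  haveI := hw
  haveI : IsClosedImmersion ((Over.pullback p).map l).left := BorelLib.isClosedImmersion_bc _ l
  haveI : IsMonHom (M := Red.bc p W) (N := Red.bc p Z) ((Over.pullback p).map l) := DiagRep.isMonHom_bc_map p l
  haveI : IsMonHom w.inv := inferInstance
  haveI : IsIso w.inv.left := (Over.forget _).map_isIso w.inv
  let l' : Red.bc p W ⟶ sp R (DA R M) := (Over.pullback p).map l ≫ w.inv
  haveI : IsMonHom l' := inferInstanceAs (IsMonHom ((Over.pullback p).map l ≫ w.inv))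
  haveI : IsClosedImmersion l'.left := by
    show IsClosedImmersion (((Over.pullback p).map l).left ≫ w.inv.left); infer_instance
  haveI : LocallyQuasiFinite (Red.bc p W).hom :=
    MorphismProperty.pullback_snd (P := @LocallyQuasiFinite) _ _ inferInstance
  haveI : LocallyOfFiniteType (Red.bc p W).hom :=
    MorphismProperty.pullback_snd (P := @LocallyOfFiniteType) _ _ inferInstance
  haveI : IsFinite (Red.bc p W).hom := isFinite_piece l'
  let c := ActBC.bcCompIso (T : Scheme.{u}).isoSpec.hom p W (d := T.ι ≫ f) (by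
    show (T : Scheme.{u}).isoSpec.hom ≫ (T : Scheme.{u}).isoSpec.inv ≫ T.ι ≫ f = _
    rw [Iso.hom_inv_id_assoc])
  haveI : IsIso c.inv.left := (Over.forget _).map_isIso c.inv
  show IsFinite (Red.bc (T.ι ≫ f) W).hom
  rw [← Over.w c.inv]
  haveI : IsFinite (Red.bc (T : Scheme.{u}).isoSpec.hom (Red.bc p W)).hom :=
    MorphismProperty.pullback_snd (P := @IsFinite) _ _ inferInstance
  infer_instance

end Groth.Agent.RedKer
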