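import Groth.Agent.RedKerLib.Central
import Groth.Agent.RedKerLib.QFinite
import Groth.Agent.RedKerLib.Discrete
import Groth.Agent.S3025
import Groth.Agent.WeilResLib.GrpGen

/-!
Quasi-finite normal subgroups of groups with centre of multiplicative type.
-/

set_option autoImplicit false
set_option linter.style.haveILetI false
set_option backward.isDefEq.respectTransparency false
set_option backward.isDefEq.respectTransparency.types false
set_option maxHeartbeats 1000000
set_option synthInstance.maxHeartbeats 400000

noncomputable section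

universe u

open CategoryTheory CategoryTheory.Limits MonoidalCategory CartesianMonoidalCategory AlgebraicGeometry
open scoped MonObj

attribute [-instance] CategoryTheory.Hom.commGroup

namespace Groth.Agent.RedKer

variable {S : Scheme.{u}}

/-- **A quasi-finite closed normal subgroup of a group with centre of multiplicative type is finite.** -/
theorem isFinite_of_quasiFinite_normal {G Z K : Over S} [GrpObj G] [GrpObj Z] [GrpObj K] [Smooth G.hom]
    (hconn : ∀ s : S, _root_.IsConnected (G.hom.base ⁻¹' {s})) {j : Z ⟶ G} (hZ : Red.IsCentre j)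
    (hZm : SGA3x.IsMultTypeFT Z) (k : K ⟶ G) [IsMonHom k] [IsClosedImmersion k.left]
    (hKn : AlgGrp.IsNormalHom k) [LocallyQuasiFinite K.hom] [QuasiCompact K.hom] : IsFinite K.hom := by
  haveI : IsSeparated G.hom := (S3025.result S G hconn).1
  haveI := hZ.1; haveI := hZ.2.1
  haveI : Mono k := Over.mono_of_mono_left k
  haveI : GeometricallyConnected G.hom := WeilRes.geometricallyConnected_of_grp G fun s =>
    WeilRes.connectedSpace_fiber_of_isConnected G.hom (hconn s)
  haveI : IsSeparated K.hom := by rw [← Over.w k]; infer_instance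
  haveI : LocallyOfFiniteType K.hom := by rw [← Over.w k]; infer_instance
  let W := pullback k j
  let l : W ⟶ K := pullback.fst k j
  let m : W ⟶ Z := pullback.snd k j
  have hp := IsPullback.of_hasPullback k j
  haveI : Mono m := inferInstanceAs (Mono (pullback.snd k j))
  obtain ⟨I, hI⟩ := SubDesc.exists_grpObj_of_mono m
    ⟨hp.lift ((fst W W ≫ l) * (snd W W ≫ l)) ((fst W W ≫ m) * (snd W W ≫ m)) (by
      rw [MonObj.mul_comp, MonObj.mul_comp, Category.assoc, Category.assoc, Category.assoc, Category.assoc, hp.w]),
      hp.lift_snd _ _ _⟩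
    ⟨hp.lift 1 1 (by rw [MonObj.one_comp, MonObj.one_comp]), hp.lift_snd _ _ _⟩
    ⟨hp.lift l⁻¹ m⁻¹ (by rw [GrpObj.inv_comp, GrpObj.inv_comp, hp.w]), hp.lift_snd _ _ _⟩
  haveI := hI
  haveI : IsClosedImmersion m.left :=
    MorphismProperty.of_isPullback (P := @IsClosedImmersion) (hp.map (Over.forget S)) ‹IsClosedImmersion k.left›
  have sq : IsPullback l.left m.left k.left j.left := hp.map (Over.forget S)
  haveI : LocallyQuasiFinite W.hom := by
    haveI : Mono j.left := inferInstanceAs (Mono ((Over.forget S).map j))
    haveI : Mono l.left := sq.mono_fst_of_mono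
    haveI : LocallyOfFiniteType l.left := by
      haveI : LocallyOfFiniteType (l.left ≫ K.hom) := by
        rw [Over.w, ← Over.w m]
        haveI := MultEq.lfp_of_isMultTypeFT hZm
        infer_instance
      exact locallyOfFiniteType_of_comp l.left K.hom
    haveI : LocallyQuasiFinite l.left := LocallyQuasiFinite.of_injective l.left.injective
    rw [← Over.w l]; infer_instance
  haveI : IsFinite W.hom := isFinite_of_quasiFinite hZm m
  haveI : Surjective l.left := by
    refine ⟨fun x₁ => ?_⟩
    let Ω : Type u := AlgebraicClosure (K.left.residueField x₁)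
    let x₀ : Spec (CommRingCat.of Ω) ⟶ K.left := Red.geomPt x₁
    let X : Over S := Over.mk (x₀ ≫ K.hom)
    let x : X ⟶ K := Over.homMk x₀ rfl
    haveI : IsIso (𝟙 X : X ⟶ X).left := inferInstanceAs (IsIso (𝟙 X.left))
    have hfinK : IsFinite (Red.bc (x₀ ≫ K.hom) K).hom := by
      haveI : LocallyQuasiFinite (Red.bc (x₀ ≫ K.hom) K).hom :=
        MorphismProperty.pullback_snd (P := @LocallyQuasiFinite) _ _ inferInstance
      haveI : QuasiCompact (Red.bc (x₀ ≫ K.hom) K).hom :=
        MorphismProperty.pullback_snd (P := @QuasiCompact) _ _ inferInstance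
      exact IsFinite.of_locallyQuasiFinite _
    obtain ⟨z, hz⟩ := (hZ.2.2 X (x ≫ k)).2 fun Y t h => by
      rw [Category.comp_id]
      exact commute_of_finite_normal (fun Y g n => (hKn Y g n).imp fun _ h => h.symm) (x₀ ≫ K.hom) hfinK (𝟙 X) x Y t h
    have hw : hp.lift x z hz.symm ≫ l = x := hp.lift_fst _ _ _
    refine ⟨(hp.lift x z hz.symm).left (IsLocalRing.closedPoint Ω), ?_⟩
    rw [← Scheme.Hom.comp_apply, ← Over.comp_left, hw]
    exact RedRank.geomPt_apply x₁
  haveI : IsFinite (l.left ≫ K.hom) := by rw [Over.w]; infer_instance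
  haveI : UniversallyClosed K.hom := UniversallyClosed.of_comp_surjective l.left K.hom
  haveI : IsProper K.hom := {}
  exact IsFinite.of_isProper_of_locallyQuasiFinite K.hom

/-- Quasi-finiteness at a point in terms of a fibre. -/
theorem quasiFiniteAt_iff_isOpen {X Y : Scheme.{u}} (f : X ⟶ Y) [LocallyOfFiniteType f] {x : X} {t : Y}
    (ht : f x = t) {a : f.fiber t} (ha : f.fiberι t a = x) : f.QuasiFiniteAt x ↔ IsOpen ({a} : Set (f.fiber t)) := by
  subst ht
  rw [(f.fiberι (f x)).isEmbedding.injective (ha.trans (by simp) : f.fiberι (f x) a = f.fiberι (f x) (f.asFiber x))]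
  exact Scheme.Hom.quasiFiniteAt_iff_isOpen_singleton_asFiber

/-- A group scheme is locally quasi-finite over the open set where it is so along the unit section. -/
theorem exists_quasiFinite_open {K : Over S} [GrpObj K] [LocallyOfFiniteType K.hom] :
    ∃ U : S.Opens, LocallyQuasiFinite (Red.bc U.ι K).hom ∧
      ∀ s : S, IsFinite (Red.bc (S.fromSpecResidueField s) K).hom → s ∈ U := by
  let e : S ⟶ K.left := (η[K]).left
  have he : ∀ s : S, K.hom (e s) = s := fun s => by
    rw [← Scheme.Hom.comp_apply]
    exact congrArg (fun f : S ⟶ S => f s) (Over.w η[K])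
  let U : S.Opens := e ⁻¹ᵁ K.hom.quasiFiniteLocus
  have hunit : ∀ s : S, (pullback.fst K.hom (S.fromSpecResidueField s))
      ((η[Red.bc (S.fromSpecResidueField s) K]).left (IsLocalRing.closedPoint (S.residueField s))) = e s := fun s => by
    have h : (η[Red.bc (S.fromSpecResidueField s) K]).left ≫ pullback.fst K.hom (S.fromSpecResidueField s) =
        S.fromSpecResidueField s ≫ e := by simp [e, Functor.grpObjObj]
    refine (congrArg (fun f : Spec (S.residueField s) ⟶ K.left => f (IsLocalRing.closedPoint (S.residueField s))) h).trans ?_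
    exact congrArg e (Scheme.fromSpecResidueField_apply s _)
  refine ⟨U, ?_, fun s hs => ?_⟩
  · haveI : LocallyOfFiniteType (Red.bc U.ι K).hom :=
      MorphismProperty.pullback_snd (P := @LocallyOfFiniteType) _ _ inferInstance
    refine (Scheme.Hom.quasiFiniteLocus_eq_top_iff (Red.bc U.ι K).hom).1 (top_le_iff.1 fun x _ => ?_)
    show (pullback.snd K.hom U.ι).QuasiFiniteAt x
    let y : K.left := pullback.fst K.hom U.ι x
    have hy : K.hom.QuasiFiniteAt y := by
      let s : S := K.hom y
      have hs : e s ∈ K.hom.quasiFiniteLocus := by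
        have h := (pullback.snd K.hom U.ι x).2
        have h2 : s = (pullback.snd K.hom U.ι x).1 := by
          show K.hom y = U.ι (pullback.snd K.hom U.ι x)
          rw [← Scheme.Hom.comp_apply, ← Scheme.Hom.comp_apply, pullback.condition]
        rw [h2]; exact h
      haveI : LocallyOfFiniteType (Red.bc (S.fromSpecResidueField s) K).hom :=
        MorphismProperty.pullback_snd (P := @LocallyOfFiniteType) _ _ inferInstance
      haveI : DiscreteTopology ↥(Red.bc (S.fromSpecResidueField s) K).left :=
        discrete_of_isOpen_unit ((quasiFiniteAt_iff_isOpen K.hom (he s) (hunit s)).1 hs)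
      obtain ⟨a, ha⟩ : y ∈ Set.range (K.hom.fiberι s) := by rw [Scheme.Hom.range_fiberι]; rfl
      exact (quasiFiniteAt_iff_isOpen K.hom rfl ha).2 (@isOpen_discrete _ _
        (‹DiscreteTopology ↥(Red.bc (S.fromSpecResidueField s) K).left› : DiscreteTopology ↥(K.hom.fiber s)) _)
    rw [← Scheme.Hom.quasiFiniteAt_comp_iff (f := pullback.snd K.hom U.ι) (g := U.ι), ← pullback.condition,
      Scheme.Hom.quasiFiniteAt_comp_iff_of_isOpenImmersion]
    exact hy
  · haveI := hs
    show e s ∈ K.hom.quasiFiniteLocus
    rw [Scheme.Hom.mem_quasiFiniteLocus, quasiFiniteAt_iff_isOpen K.hom (he s) (hunit s)]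
    haveI : IsLocallyArtinian (Red.bc (S.fromSpecResidueField s) K).left :=
      .of_locallyQuasiFinite (Red.bc (S.fromSpecResidueField s) K).hom
    have hd : DiscreteTopology ↥(Red.bc (S.fromSpecResidueField s) K).left := inferInstance
    exact @isOpen_discrete _ _ (hd : DiscreteTopology ↥(K.hom.fiber s)) _

end Groth.Agent.RedKer
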