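import Groth.Agent.RedKerLib.Normal
import Mathlib.RingTheory.LocalRing.Module

/-!
A finite group with trivial fibre is trivial nearby.
-/

set_option autoImplicit false
set_option linter.style.haveILetI false
set_option backward.isDefEq.respectTransparency false
set_option backward.isDefEq.respectTransparency.types false
set_option maxHeartbeats 1000000
set_option synthInstance.maxHeartbeats 400000

noncomputable section

universe u

open CategoryTheory CategoryTheory.Limits MonoidalCategory CartesianMonoidalCategory AlgebraicGeometry CoactBr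
open scoped MonObj TensorProduct

attribute [-instance] CategoryTheory.Hom.commGroup

namespace Groth.Agent.RedKer

attribute [local instance] CoactBr.braidedAlgSpecOf

open Groth.Agent.DiagRep (baseHom bcHom)

/-- A finite algebra with trivial fibre at a prime is a quotient of the base nearby. -/
theorem exists_surjective_away {A B : Type u} [CommRing A] [CommRing B] [Algebra A B] [Module.Finite A B]
    (p : PrimeSpectrum A) (h : Function.Surjective (algebraMap p.asIdeal.ResidueField (p.asIdeal.ResidueField ⊗[A] B))) :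
    ∃ f : A, f ∉ p.asIdeal ∧ Function.Surjective (algebraMap (Localization.Away f) (Localization.Away f ⊗[A] B)) := by
  let M := B ⧸ LinearMap.range (Algebra.linearMap A B)
  have hM : Subsingleton (p.asIdeal.ResidueField ⊗[A] M) := by
    refine subsingleton_of_forall_eq 0 fun z => ?_
    obtain ⟨w, rfl⟩ := LinearMap.lTensor_surjective p.asIdeal.ResidueField
      (g := (LinearMap.range (Algebra.linearMap A B)).mkQ) (Submodule.mkQ_surjective _) z
    obtain ⟨c, rfl⟩ := h w
    rw [Algebra.TensorProduct.algebraMap_apply, LinearMap.lTensor_tmul,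
      show ((LinearMap.range (Algebra.linearMap A B)).mkQ (1 : B)) = 0 from
        (Submodule.Quotient.mk_eq_zero _).2 ⟨1, by simp⟩, TensorProduct.tmul_zero]
  obtain ⟨f, hf, hfM⟩ : ∃ f : A, f ∉ p.asIdeal ∧ ∀ m : M, f • m = 0 := by
    by_contra hno
    push Not at hno
    have hmem : p ∈ Module.support A M := by
      rw [Module.mem_support_iff_of_finite]
      intro a ha
      by_contra hap
      obtain ⟨m, hm⟩ := hno a hap
      exact hm (Module.mem_annihilator.1 ha m)
    exact not_nontrivial _ ((Module.mem_support_iff_nontrivial_residueField_tensorProduct p).1 hmem)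
  refine ⟨f, hf, fun z => ?_⟩
  induction z using TensorProduct.induction_on with
  | zero => exact ⟨0, map_zero _⟩
  | add x y hx hy =>
    obtain ⟨a, rfl⟩ := hx
    obtain ⟨b, rfl⟩ := hy
    exact ⟨a + b, map_add _ _ _⟩
  | tmul x b =>
    obtain ⟨a, ha⟩ : f • b ∈ LinearMap.range (Algebra.linearMap A B) :=
      (Submodule.Quotient.mk_eq_zero _).1 (hfM (Submodule.Quotient.mk b))
    obtain ⟨v, hv⟩ := (IsLocalization.Away.algebraMap_isUnit (S := Localization.Away f) f).exists_left_inv
    refine ⟨a • (x * v), ?_⟩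
    have hxv : f • (x * v) = x := by
      rw [Algebra.smul_def, mul_left_comm, mul_comm _ v, hv, mul_one]
    conv_rhs => rw [← hxv, TensorProduct.smul_tmul, ← ha]
    rw [Algebra.TensorProduct.algebraMap_apply, Algebra.linearMap_apply, Algebra.algebraMap_eq_smul_one a]
    simp [TensorProduct.smul_tmul]

variable {S : Scheme.{u}}

/-- **A finite group with trivial fibre at a point is trivial in a neighbourhood.** -/
theorem exists_trivial_nhd {K : Over S} [GrpObj K] {U : S.Opens} (hU : IsFinite (Red.bc U.ι K).hom) (s : S)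
    (hs : s ∈ U) (htriv : IsIso (Red.bc (S.fromSpecResidueField s) K).hom) :
    ∃ V : S.Opens, s ∈ V ∧ IsIso (Red.bc V.ι K).hom := by
  obtain ⟨T, hT, hsT, hTU⟩ := exists_isAffineOpen_mem_and_subset (X := S) (x := s) (U := U) hs
  haveI : IsAffine (T : Scheme.{u}) := hT
  let R : Type u := Γ((T : Scheme.{u}), ⊤)
  let p : Spec (CommRingCat.of R) ⟶ S := (T : Scheme.{u}).isoSpec.inv ≫ T.ι
  haveI : IsOpenImmersion p := by dsimp only [p]; infer_instance
  haveI := hU
  haveI : IsFinite (Red.bc p K).hom := by
    let q : Spec (CommRingCat.of R) ⟶ (U : Scheme.{u}) := (T : Scheme.{u}).isoSpec.inv ≫ S.homOfLE hTU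
    let c := ActBC.bcCompIso q U.ι K (d := p) (by simp only [q, p, Category.assoc, Scheme.homOfLE_ι])
    haveI : IsIso c.inv.left := (Over.forget _).map_isIso c.inv
    rw [← Over.w c.inv]
    haveI : IsFinite (Red.bc q (Red.bc U.ι K)).hom :=
      MorphismProperty.pullback_snd (P := @IsFinite) _ _ inferInstance
    infer_instance
  haveI : IsAffine (Red.bc p K).left := isAffine_of_isAffineHom (Red.bc p K).hom
  obtain ⟨B, _, _, z, hz, hz'⟩ := HomCorr.exists_hopf (Red.bc p K)
  haveI : IsIso z.hom.left := (Over.forget _).map_isIso z.hom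
  haveI : Module.Finite R B := by
    have h : IsFinite (sp R B).hom := by rw [← Over.w z.hom]; infer_instance
    change IsFinite (Spec.map (CommRingCat.ofHom (algebraMap R B))) at h
    exact RingHom.finite_algebraMap.1 ((IsFinite.SpecMap_iff _).1 h)
  obtain ⟨P, hP⟩ : s ∈ Set.range p := ⟨(T : Scheme.{u}).isoSpec.hom ⟨s, hsT⟩,
    congrArg (fun g : (T : Scheme.{u}) ⟶ S => g ⟨s, hsT⟩) ((T : Scheme.{u}).isoSpec.hom_inv_id_assoc T.ι)⟩
  have hbc : ∀ (L : Type u) [CommRing L] [Algebra R L],
      IsIso (Red.bc (baseHom R L ≫ p) K).hom ↔ Function.Bijective (algebraMap L (L ⊗[R] B)) := by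
    intro L _ _
    let e : Red.bc (baseHom R L ≫ p) K ≅ sp L (L ⊗[R] B) :=
      (ActBC.bcCompIso (baseHom R L) p K rfl).symm ≪≫ ((Over.pullback (baseHom R L)).mapIso z).symm ≪≫
        asIso (bcHom R L B)
    haveI : IsIso e.hom.left := (Over.forget _).map_isIso e.hom
    rw [show IsIso (Red.bc (baseHom R L ≫ p) K).hom ↔ IsIso (sp L (L ⊗[R] B)).hom by
      rw [← Over.w e.hom]; exact ⟨fun h => IsIso.of_isIso_comp_left e.hom.left _, fun h => inferInstance⟩]
    exact isIso_SpecMap_iff (f := CommRingCat.ofHom (algebraMap L (L ⊗[R] B)))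
  obtain ⟨L₀, hL₀⟩ : ∃ _d : Spec (CommRingCat.of P.asIdeal.ResidueField) ⟶ Spec (S.residueField s),
      _d ≫ S.fromSpecResidueField s = baseHom R P.asIdeal.ResidueField ≫ p := by
    let g : Spec (CommRingCat.of P.asIdeal.ResidueField) ⟶ S := baseHom R P.asIdeal.ResidueField ≫ p
    have hg : g (IsLocalRing.closedPoint _) = s := by
      show p (baseHom R P.asIdeal.ResidueField (IsLocalRing.closedPoint _)) = s
      rw [← hP]
      refine congrArg p (PrimeSpectrum.ext ?_)
      show Ideal.comap (algebraMap R P.asIdeal.ResidueField) (IsLocalRing.maximalIdeal _) = P.asIdeal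
      rw [IsLocalRing.maximalIdeal_eq_bot, ← RingHom.ker_eq_comap_bot, Ideal.ker_algebraMap_residueField]
    subst hg
    exact ⟨Spec.map (S.descResidueField (Scheme.stalkClosedPointTo g)),
      Scheme.descResidueField_stalkClosedPointTo_fromSpecResidueField _ S g⟩
  haveI := htriv
  have hκ : IsIso (Red.bc (baseHom R P.asIdeal.ResidueField ≫ p) K).hom := by
    let c := ActBC.bcCompIso L₀ (S.fromSpecResidueField s) K hL₀
    haveI : IsIso c.inv.left := (Over.forget _).map_isIso c.inv
    rw [← Over.w c.inv]
    haveI : IsIso (Red.bc L₀ (Red.bc (S.fromSpecResidueField s) K)).hom :=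
      MorphismProperty.pullback_snd (P := MorphismProperty.isomorphisms Scheme.{u}) _ _ htriv
    infer_instance
  obtain ⟨f, hf, hsurj⟩ := exists_surjective_away P ((hbc _).1 hκ).2
  let Rf := Localization.Away f
  let j : Spec (CommRingCat.of Rf) ⟶ S := baseHom R Rf ≫ p
  haveI : IsOpenImmersion (baseHom R Rf) := IsOpenImmersion.of_isLocalization f
  haveI : IsOpenImmersion j := by dsimp only [j]; infer_instance
  have hj : IsIso (Red.bc j K).hom := by
    let X := Red.bc j K
    haveI : Mono X.hom := by
      let e : X ≅ sp Rf (Rf ⊗[R] B) := (ActBC.bcCompIso (baseHom R Rf) p K rfl).symm ≪≫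
        ((Over.pullback (baseHom R Rf)).mapIso z).symm ≪≫ asIso (bcHom R Rf B)
      haveI : IsIso e.hom.left := (Over.forget _).map_isIso e.hom
      haveI : IsClosedImmersion (sp Rf (Rf ⊗[R] B)).hom :=
        IsClosedImmersion.spec_of_surjective (CommRingCat.ofHom (algebraMap Rf (Rf ⊗[R] B))) hsurj
      rw [← Over.w e.hom]
      infer_instance
    have hsec : (η[X]).left ≫ X.hom = 𝟙 _ := Over.w η[X]
    exact ⟨(η[X]).left, (cancel_mono X.hom).1 (by rw [Category.assoc, hsec, Category.id_comp]; exact Category.comp_id _), hsec⟩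
  refine ⟨j.opensRange, ?_, ?_⟩
  · obtain ⟨Q, hQ⟩ : P ∈ Set.range (PrimeSpectrum.comap (algebraMap R Rf)) := by
      rw [PrimeSpectrum.localization_away_comap_range Rf f]; exact hf
    exact ⟨Q, by rw [← hP, ← hQ]; rfl⟩
  · let c := ActBC.bcCompIso j.isoOpensRange.inv j K (d := j.opensRange.ι) (Scheme.Hom.isoOpensRange_inv_comp j)
    haveI : IsIso c.inv.left := (Over.forget _).map_isIso c.inv
    rw [← Over.w c.inv]
    haveI : IsIso (Red.bc j.isoOpensRange.inv (Red.bc j K)).hom :=
      MorphismProperty.pullback_snd (P := MorphismProperty.isomorphisms Scheme.{u}) _ _ hj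
    infer_instance

end Groth.Agent.RedKer
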